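import Cfsg.Agent.H31.NatEmbedded.Spread
import Cfsg.Agent.H27.EightPoints
import Cfsg.Agent.H27.ProjLine
import Cfsg.Agent.Linear.Simple
import Cfsg.Agent.Linear.Order

/-!
# The case `|F| = 4`: the group sits in `GL₄(2) ≅ A₈`
-/

set_option autoImplicit false
set_option linter.unusedSectionVars false

namespace Cfsg.Agent.H31.NatEmbedded

open Subgroup Matrix Cfsg.Agent

variable {G : Type*} [Group G] [Finite G] {F : Type*} [Field F] [Fintype F]

/-- A simple group has no nontrivial image of smaller order. -/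
theorem hom_trivial {S H : Type*} [Group S] [Group H] [Finite H] [IsSimpleGroup S] (f : S →* H)
    (h : Nat.card H < Nat.card S) (s : S) : f s = 1 := by
  rcases (f.normal_ker).eq_bot_or_eq_top with e | e
  · exact absurd (Nat.card_le_card_of_injective f ((MonoidHom.ker_eq_bot_iff f).mp e)) (not_le.mpr h)
  · exact MonoidHom.mem_ker.mp (e ▸ mem_top s)

/-- Subgroups of index at most seven in the situation `|N : L| = 2`. -/
theorem normal_of_small_index (L N : Subgroup G) [IsSimpleGroup L] (hL : Nat.card L = 60) (hLN : L ≤ N)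
    (hN : Nat.card N = 120) (hLn : (L.subgroupOf N).Normal) (hcl : ∀ z : G, z * z = 1 → (∀ l ∈ L, z * l = l * z) → z = 1)
    (hi : N.index = 3 ∨ N.index = 7) : L.Normal := by
  classical
  set C := N.normalCore
  have hCN : C ≤ N := N.normalCore_le
  haveI : C.Normal := N.normalCore_normal
  have key : L ≤ C → L.Normal := by
    intro hLC
    refine ⟨fun n hn g => ?_⟩
    have hgC : ∀ l : L, g * (l : G) * g⁻¹ ∈ N := fun l => hCN ((N.normalCore_normal).conj_mem _ (hLC l.2) g)
    let f : L →* N ⧸ L.subgroupOf N := (QuotientGroup.mk' _).comp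
      (MonoidHom.mk' (fun l => (⟨g * (l : G) * g⁻¹, hgC l⟩ : N)) fun a b => Subtype.ext (by
        show g * ((a : G) * b) * g⁻¹ = (g * a * g⁻¹) * (g * b * g⁻¹); group))
    have hq : Nat.card (N ⧸ L.subgroupOf N) < Nat.card L := by
      rw [hL, ← index_eq_card]
      have := (L.subgroupOf N).card_mul_index
      rw [Nat.card_congr (subgroupOfEquivOfLe hLN).toEquiv, hL, hN] at this
      omega
    have h1 := hom_trivial f hq ⟨n, hn⟩
    change (QuotientGroup.mk' (L.subgroupOf N)) _ = 1 at h1
    rw [QuotientGroup.mk'_apply, QuotientGroup.eq_one_iff] at h1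
    exact h1
  let θ := MulAction.toPermHom G (G ⧸ N)
  have hker : θ.ker = C := (normalCore_eq_ker N).symm
  have hperm : Nat.card (Equiv.Perm (G ⧸ N)) = N.index.factorial := by rw [Nat.card_perm, index_eq_card]
  rcases hi with h3 | h7
  · refine key fun l hl => ?_
    rw [← hker, MonoidHom.mem_ker]
    exact hom_trivial (θ.comp L.subtype) (by rw [hperm, h3, hL]; decide) ⟨l, hl⟩
  · rcases (inferInstance : (C.subgroupOf L).Normal).eq_bot_or_eq_top with e | e
    swap
    · exact key (subgroupOf_eq_top.mp e)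
    exfalso
    have hdisj : ∀ x ∈ C, x ∈ L → x = 1 := fun x hx hxL => by
      have : (⟨x, hxL⟩ : L) ∈ C.subgroupOf L := hx
      rw [e, mem_bot] at this
      exact congrArg Subtype.val this
    have hC : C = ⊥ := by
      refine (eq_bot_iff_forall _).mpr fun z hz => ?_
      have hLnm : ∀ a ∈ N, ∀ b ∈ L, a * b * a⁻¹ ∈ L := fun a ha b hb =>
        hLn.conj_mem ⟨b, hLN hb⟩ hb ⟨a, ha⟩
      refine hcl z (hdisj _ (mul_mem hz hz) ?_) fun l hl => ?_
      · have hq : (L.subgroupOf N).index = 2 := by
          have := (L.subgroupOf N).card_mul_index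
          rw [Nat.card_congr (subgroupOfEquivOfLe hLN).toEquiv, hL, hN] at this
          omega
        exact mul_self_mem_of_index_two hq ⟨z, hCN hz⟩
      · have hc : z * l * z⁻¹ * l⁻¹ = 1 := hdisj _
          (by
            rw [show z * l * z⁻¹ * l⁻¹ = z * (l * z⁻¹ * l⁻¹) by group]
            exact mul_mem hz ((N.normalCore_normal).conj_mem _ (inv_mem hz) l))
          (mul_mem (hLnm z (hCN hz) l hl) (inv_mem hl))
        exact mul_inv_eq_iff_eq_mul.mp (mul_inv_eq_one.mp hc)
    have hinj : Function.Injective θ := (MonoidHom.ker_eq_bot_iff θ).mp (hker.trans hC)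
    haveI : Fintype (G ⧸ N) := Fintype.ofFinite _
    have hn7 : Nat.card (G ⧸ N) = 7 := by rw [← index_eq_card, h7]
    have hcG : Nat.card θ.range = 840 := by
      rw [← Nat.card_congr (MonoidHom.ofInjective hinj).toEquiv, ← N.card_mul_index, hN, h7]
    have hidx : θ.range.index = 6 := by
      have := θ.range.card_mul_index
      rw [hcG, hperm, h7] at this
      have h5040 : Nat.factorial 7 = 5040 := by decide
      omega
    let A := alternatingGroup (G ⧸ N)
    haveI : Nontrivial (G ⧸ N) := Finite.one_lt_card_iff_nontrivial.mp (by omega)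
    haveI : IsSimpleGroup A := alternatingGroup.isSimpleGroup (by omega)
    have hA : Nat.card A = 2520 := by
      rw [nat_card_alternatingGroup, hn7]; decide
    have hle : A ≤ θ.range := by
      intro a ha
      have := hom_trivial ((MulAction.toPermHom (Equiv.Perm (G ⧸ N)) (Equiv.Perm (G ⧸ N) ⧸ θ.range)).comp A.subtype)
        (by rw [Nat.card_perm, ← index_eq_card, hidx, hA]; decide) ⟨a, ha⟩
      have h1 : a ∈ θ.range.normalCore := by rw [normalCore_eq_ker, MonoidHom.mem_ker]; exact this
      exact normalCore_le _ h1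
    have := card_le_of_le hle
    omega
where
  mul_self_mem_of_index_two {N : Subgroup G} {H : Subgroup N} (h : H.index = 2) (z : N) : z * z ∈ H :=
    Subgroup.mul_self_mem_of_index_two h z

variable [CharP F 2] [DistribMulAction G (Fin 2 → F)] (K : Setup G F 2)

local notation "V2" => (Fin 2 → F)

namespace Setup

theorem τ_invol (h4 : Fintype.card F ≤ 4) {g : G} (hg : g ∈ normalizer (K.L : Set G)) (c : F) :
    K.τ g (K.τ g c) = c := by
  classical
  by_contra hne
  have hinj : Function.Injective (K.τ g) := (K.τHom hg).injective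
  have h0 : K.τ g 0 = 0 := map_zero (K.τHom hg)
  have h1 : K.τ g 1 = 1 := K.τ_one hg
  have hc0 : c ≠ 0 := fun e => hne (by rw [e, h0, h0])
  have hc1 : c ≠ 1 := fun e => hne (by rw [e, h1, h1])
  have hc' : K.τ g c ≠ c := fun e => hne (by rw [e, e])
  have hd : K.τ g (K.τ g c) ≠ K.τ g c := fun e => hc' (hinj e)
  have n0 : ∀ x, x ≠ 0 → K.τ g x ≠ 0 := fun x hx e => hx (hinj (e.trans h0.symm))
  have n1 : ∀ x, x ≠ 1 → K.τ g x ≠ 1 := fun x hx e => hx (hinj (e.trans h1.symm))
  have h5 : ({0, 1, c, K.τ g c, K.τ g (K.τ g c)} : Finset F).card = 5 := by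
    rw [Finset.card_insert_of_notMem, Finset.card_insert_of_notMem, Finset.card_insert_of_notMem,
      Finset.card_pair hd.symm] <;>
      simp [hc'.symm, hc0.symm, hc1.symm, Ne.symm hne, (n0 c hc0).symm, (n0 _ (n0 c hc0)).symm, (n1 c hc1).symm,
        (n1 _ (n1 c hc1)).symm]
  have := Finset.card_le_univ ({0, 1, c, K.τ g c, K.τ g (K.τ g c)} : Finset F)
  omega

theorem le_R_of_two (h2 : Fintype.card F = 2) : (K.P : Subgroup G) ≤ K.R := fun g hg =>
  K.mem_R_of_τ hg fun c => by
    classical
    by_contra hne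
    have h0 : K.τ g 0 = 0 := map_zero (K.τHom (K.PN hg))
    have h1 : K.τ g 1 = 1 := K.τ_one (K.PN hg)
    have hc0 : c ≠ 0 := fun e => hne (by rw [e, h0])
    have hc1 : c ≠ 1 := fun e => hne (by rw [e, h1])
    have := Finset.card_le_univ ({0, 1, c} : Finset F)
    rw [Finset.card_insert_of_notMem (by simp [hc0.symm]), Finset.card_pair hc1.symm] at this
    omega

theorem isSimple_L (h4 : Fintype.card F = 4) : IsSimpleGroup K.L ∧ Nat.card K.L = 60 := by
  have hρ : Function.Injective K.ρ := K.ρ_inj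
  let e : Matrix.SpecialLinearGroup (Fin 2) F ≃* K.L :=
    (MonoidHom.ofInjective hρ).trans (MulEquiv.subgroupCongr K.range)
  have hc : Subgroup.center (Matrix.SpecialLinearGroup (Fin 2) F) = ⊥ := by
    refine (eq_bot_iff_forall _).mpr fun z hz => ?_
    rcases Linear.mem_center_SL_two.mp hz with h | h
    · exact h
    · rw [h]; ext i j; simp [CharTwo.neg_eq]
  haveI := Linear.isSimpleGroup_PSL_fin (F := F) (n := 2) le_rfl (fun _ => by rw [Nat.card_eq_fintype_card, h4])
  haveI : IsSimpleGroup (Matrix.SpecialLinearGroup (Fin 2) F) :=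
    ((QuotientGroup.quotientMulEquivOfEq hc).trans QuotientGroup.quotientBot).symm.isSimpleGroup
  refine ⟨e.symm.isSimpleGroup, ?_⟩
  rw [← Nat.card_congr e.toEquiv, Linear.card_SL_two, h4]
  norm_num

theorem cent_L {z : G} (hz : z * z = 1) (hc : ∀ l ∈ K.L, z * l = l * z) : z = 1 := by
  obtain ⟨c, hc'⟩ := K.scalar_of_comm (DistribSMul.toAddMonoidHom V2 z) fun s m => by
    show z • (K.ρ s • m) = K.ρ s • z • m
    rw [← mul_smul, hc _ (K.ρ_mem s), mul_smul]
  change ∀ m : V2, z • m = c • m at hc'
  have hcc : (c - 1) * (c - 1) = 0 := by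
    have h := congrFun (congrArg (· • (e0 : V2)) hz) 0
    simp only [mul_smul, one_smul, hc', Pi.smul_apply, smul_eq_mul, Matrix.cons_val_zero] at h
    linear_combination h + (1 - c) * (CharP.cast_eq_zero F 2)
  refine K.faith z fun m => ?_
  rw [hc', show c = 1 from sub_eq_zero.mp (mul_self_eq_zero.mp hcc), one_smul]

include K in
theorem exists_emb (h4 : Fintype.card F = 4) :
    ∃ f : G →* alternatingGroup (Fin 8), Function.Injective f := by
  classical
  letI : Module (ZMod 2) V2 := AddCommGroup.zmodModule (n := 2) fun m => by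
    ext i; simp [CharTwo.two_eq_zero, two_mul, ← two_nsmul]
  haveI : Module.Finite (ZMod 2) V2 := Module.Finite.of_finite
  have hd : Module.finrank (ZMod 2) V2 = 4 := by
    have h := Module.natCard_eq_pow_finrank (K := ZMod 2) (V := V2)
    rw [Nat.card_fun, Nat.card_zmod, Nat.card_fin, Nat.card_eq_fintype_card, h4] at h
    exact (Nat.pow_right_injective le_rfl (by norm_num at h ⊢; exact h)).symm
  let b : Module.Basis (Fin 4) (ZMod 2) V2 := Module.finBasisOfFinrankEq _ _ hd
  let lin : G →* Module.End (ZMod 2) V2 :=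
    { toFun := fun g => (DistribSMul.toAddMonoidHom V2 g).toZModLinearMap 2
      map_one' := LinearMap.ext fun m => one_smul G m
      map_mul' := fun g h => LinearMap.ext fun m => mul_smul g h m }
  let M : G →* Matrix (Fin 4) (Fin 4) (ZMod 2) := (LinearMap.toMatrixAlgEquiv b).toRingEquiv.toMonoidHom.comp lin
  have hdet : ∀ g, (M g).det = 1 := fun g => by
    have h := congrArg Matrix.det ((map_mul M g g⁻¹).symm.trans (by rw [mul_inv_cancel, map_one]))
    rw [Matrix.det_mul, Matrix.det_one] at h
    exact (by decide : ∀ x y : ZMod 2, x * y = 1 → x = 1) _ _ h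
  let φ : G →* Matrix.SpecialLinearGroup (Fin 4) (ZMod 2) :=
    MonoidHom.mk' (fun g => ⟨M g, hdet g⟩) fun g h => Subtype.ext (map_mul M g h)
  obtain ⟨e⟩ := H27.EightPoints.psl_four_two' (F := ZMod 2) (ZMod.card 2)
  refine ⟨e.toMonoidHom.comp ((QuotientGroup.mk' _).comp φ), (injective_iff_map_eq_one _).mpr fun g hg => ?_⟩
  have h1 : QuotientGroup.mk' _ (φ g) = 1 := e.injective (by rw [map_one]; exact hg)
  rw [QuotientGroup.mk'_apply, QuotientGroup.eq_one_iff] at h1
  have hc : Subgroup.center (Matrix.SpecialLinearGroup (Fin 4) (ZMod 2)) = ⊥ := by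
    rw [← Subgroup.card_eq_one, Linear.card_center_SL, ZMod.card]; rfl
  rw [hc, mem_bot] at h1
  refine K.faith g fun m => ?_
  have hl : lin g = 1 := (LinearMap.toMatrixAlgEquiv b).injective (by
    rw [map_one]; exact congrArg Subtype.val h1)
  exact LinearMap.congr_fun hl m

theorem card_P (h4 : Fintype.card F = 4) (hPR : ¬ (K.P : Subgroup G) ≤ K.R) : Nat.card K.P = 8 := by
  classical
  obtain ⟨e, he, heR⟩ := SetLike.not_le_iff_exists.mp hPR
  have hm : ∀ g : (K.P : Subgroup G), (g : G) ∉ K.R → (g : G) * e ∈ K.R := fun g hg => by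
    refine K.mem_R_of_τ (mul_mem g.2 he) fun c => ?_
    rw [K.τ_comp (K.PN g.2) (K.PN he)]
    by_contra hne
    have i1 := fun x => K.τ_invol h4.le (K.PN g.2) x
    have i2 := fun x => K.τ_invol h4.le (K.PN he) x
    -- each of the two moves exactly the two elements outside the prime field
    have z1 : K.τ g 0 = 0 ∧ K.τ g 1 = 1 := ⟨map_zero (K.τHom (K.PN g.2)), K.τ_one (K.PN g.2)⟩
    have z2 : K.τ e 0 = 0 ∧ K.τ e 1 = 1 := ⟨map_zero (K.τHom (K.PN he)), K.τ_one (K.PN he)⟩
    obtain ⟨a, ha⟩ : ∃ a, K.τ g a ≠ a := not_forall.mp fun h => hg (K.mem_R_of_τ g.2 h)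
    obtain ⟨b, hb⟩ : ∃ b, K.τ e b ≠ b := not_forall.mp fun h => heR (K.mem_R_of_τ he h)
    have a0 : a ≠ 0 := fun h => ha (by rw [h, z1.1])
    have a1 : a ≠ 1 := fun h => ha (by rw [h, z1.2])
    have b0 : b ≠ 0 := fun h => hb (by rw [h, z2.1])
    have b1 : b ≠ 1 := fun h => hb (by rw [h, z2.2])
    have ga0 : K.τ g a ≠ 0 := fun h => a0 (by rw [← i1 a, h, z1.1])
    have ga1 : K.τ g a ≠ 1 := fun h => a1 (by rw [← i1 a, h, z1.2])
    have hall : ∀ x : F, x = 0 ∨ x = 1 ∨ x = a ∨ x = K.τ g a := fun x => by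
      have h := Finset.eq_univ_of_card ({0, 1, a, K.τ g a} : Finset F) (by
        rw [Finset.card_insert_of_notMem, Finset.card_insert_of_notMem, Finset.card_pair ha.symm, h4] <;>
          simp [a0.symm, a1.symm, ga0.symm, ga1.symm])
      have hx : x ∈ ({0, 1, a, K.τ g a} : Finset F) := h ▸ Finset.mem_univ x
      simpa using hx
    have hinj : Function.Injective (K.τ e) := (K.τHom (K.PN he)).injective
    have hea : K.τ e a = K.τ g a := by
      rcases hall (K.τ e a) with h | h | h | h
      · exact absurd (hinj (h.trans z2.1.symm)) a0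
      · exact absurd (hinj (h.trans z2.2.symm)) a1
      · exfalso
        apply hb
        rcases hall b with rfl | rfl | rfl | rfl
        · exact z2.1
        · exact z2.2
        · exact h
        · rcases hall (K.τ e (K.τ g a)) with h' | h' | h' | h'
          · exact absurd (hinj (h'.trans z2.1.symm)) ga0
          · exact absurd (hinj (h'.trans z2.2.symm)) ga1
          · exact absurd (hinj (h'.trans h.symm)) ha
          · exact h'
      · exact h
    rcases hall c with rfl | rfl | rfl | rfl
    · exact hne (by rw [z2.1, z1.1])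
    · exact hne (by rw [z2.2, z1.2])
    · exact hne (by rw [hea, i1])
    · exact hne (by rw [← hea, i2, hea])
  have hle : Nat.card K.P ≤ 8 := by
    rw [show (8 : ℕ) = Nat.card (Bool × K.R) by rw [Nat.card_prod, K.card_R, h4]; simp]
    refine Nat.card_le_card_of_injective (fun g : (K.P : Subgroup G) => if h : (g : G) ∈ K.R then (true, (⟨g, h⟩ : K.R))
      else (false, ⟨_, hm g h⟩)) fun g g' h => ?_
    by_cases h1 : (g : G) ∈ K.R <;> by_cases h2 : (g' : G) ∈ K.R <;> simp [h1, h2] at h <;>
      first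
        | exact h
        | exact Subtype.ext h
  have hlt : Nat.card K.R < Nat.card K.P := by
    refine lt_of_le_of_ne (card_le_of_le K.R_le_P) fun h => hPR ?_
    exact (Subgroup.eq_of_le_of_card_ge K.R_le_P h.ge).ge
  obtain ⟨j, hj⟩ := IsPGroup.iff_card.mp K.P.2
  rw [K.card_R, h4] at hlt
  rw [hj] at hlt hle ⊢
  have h2 : 2 < j := (Nat.pow_lt_pow_iff_right (by norm_num : 1 < 2)).mp (show 2 ^ 2 < 2 ^ j from hlt)
  have h3 : j ≤ 3 := (Nat.pow_le_pow_iff_right (by norm_num : 1 < 2)).mp (show 2 ^ j ≤ 2 ^ 3 from hle)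
  rw [show j = 3 by omega]
  norm_num

theorem four (h4 : Fintype.card F = 4) (hPR : ¬ (K.P : Subgroup G) ≤ K.R) :
    K.L.Normal ∨ Nonempty (G ≃* alternatingGroup (Fin 7)) := by
  classical
  obtain ⟨hsimple, h60⟩ := K.isSimple_L h4
  haveI := hsimple
  obtain ⟨f, hf⟩ := K.exists_emb h4
  haveI : IsSimpleGroup (alternatingGroup (Fin 8)) := alternatingGroup.isSimpleGroup (by simp)
  have hA : Nat.card (alternatingGroup (Fin 8)) = 20160 := by
    rw [nat_card_alternatingGroup, Nat.card_fin]; decide
  have hG : Nat.card G ∣ 20160 := hA ▸ Subgroup.card_dvd_of_injective f hf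
  have hP8 := K.card_P h4 hPR
  set N := normalizer (K.L : Set G) with hNdef
  have h60N : 60 ∣ Nat.card N := h60 ▸ card_dvd_of_le le_normalizer
  have h8N : 8 ∣ Nat.card N := hP8 ▸ card_dvd_of_le K.PN
  have h120 : 120 ∣ Nat.card N := by
    have := Nat.lcm_dvd h60N h8N
    exact this
  have hNG : Nat.card N * N.index = Nat.card G := N.card_mul_index
  have hodd : ¬ 16 ∣ Nat.card G := fun h => by
    have h2 := (Nat.Prime.pow_dvd_iff_le_factorization Nat.prime_two Nat.card_pos.ne').mp (show 2 ^ 4 ∣ _ from h)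
    have h3 := K.P.card_eq_multiplicity
    rw [hP8] at h3
    have := (Nat.pow_le_pow_iff_right (by norm_num : 1 < 2)).mpr h2
    omega
  by_cases hN : N.index = 1
  · exact Or.inl (normalizer_eq_top_iff.mp (index_eq_one.mp hN))
  obtain ⟨j, hj⟩ : 120 ∣ Nat.card G := hNG ▸ h120.mul_right _
  have hjd : j ∣ 168 := Nat.dvd_of_mul_dvd_mul_left (show 0 < 120 by norm_num)
    (show 120 * j ∣ 120 * 168 from hj ▸ hG)
  have hjodd : ¬ 2 ∣ j := fun ⟨i, hi⟩ => hodd ⟨15 * i, by omega⟩
  have hjle := Nat.le_of_dvd (by norm_num) hjd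
  have hj' : j = 1 ∨ j = 3 ∨ j = 7 ∨ j = 21 := by
    interval_cases j <;> first | omega | (norm_num at hjd hjodd ⊢)
  obtain ⟨i, hi⟩ := h120
  have hij : j = i * N.index := by
    have : 120 * j = 120 * (i * N.index) := by rw [← hj, ← hNG, hi]; ring
    omega
  have hLn : (K.L.subgroupOf N).Normal := normal_in_normalizer
  rcases hj' with rfl | rfl | rfl | rfl
  · exact absurd (Nat.eq_one_of_mul_eq_one_left hij.symm) hN
  · have h3 : N.index = 3 := ((Nat.prime_three.eq_one_or_self_of_dvd _ ⟨i, by rw [hij]; ring⟩).resolve_left hN)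
    rw [h3] at hij
    exact Or.inl (normal_of_small_index K.L N h60 le_normalizer (by rw [hi]; omega) hLn
      (fun z hz hc => K.cent_L hz hc) (Or.inl h3))
  · have h7 : N.index = 7 := (((by norm_num : Nat.Prime 7)).eq_one_or_self_of_dvd _ ⟨i, by rw [hij]; ring⟩).resolve_left hN
    rw [h7] at hij
    exact Or.inl (normal_of_small_index K.L N h60 le_normalizer (by rw [hi]; omega) hLn
      (fun z hz hc => K.cent_L hz hc) (Or.inr h7))
  · right
    have hH : Nat.card f.range = 2520 := by rw [← Nat.card_congr (MonoidHom.ofInjective hf).toEquiv, hj]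
    have hidx : f.range.index = 8 := by
      have := f.range.card_mul_index
      rw [hH, hA] at this
      omega
    let x0 : alternatingGroup (Fin 8) ⧸ f.range := (1 : alternatingGroup (Fin 8))
    have : FaithfulSMul (alternatingGroup (Fin 8)) (alternatingGroup (Fin 8) ⧸ f.range) := by
      refine faithfulSMul_iff.2 fun a ha => ?_
      have h1 : a ∈ f.range.normalCore := by
        rw [Subgroup.normalCore_eq_ker, MonoidHom.mem_ker]
        exact Equiv.ext ha
      rcases (f.range.normalCore_normal).eq_bot_or_eq_top with h | h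
      · rw [h, mem_bot] at h1; exact h1
      · have h' : f.range = ⊤ := top_le_iff.1 (h ▸ f.range.normalCore_le)
        rw [h', index_top] at hidx
        omega
    have hst : MulAction.stabilizer (alternatingGroup (Fin 8)) x0 = f.range := MulAction.stabilizer_quotient _
    obtain ⟨e7⟩ := H27.ProjLine.exists_equiv_alternating_stabilizer (A := alternatingGroup (Fin 8)) x0 (n := 7)
      (by rw [← index_eq_card, hidx]) (by rw [hst, hH]; rfl)
    exact ⟨((MonoidHom.ofInjective hf).trans (MulEquiv.subgroupCongr hst.symm)).trans e7⟩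

end Setup

end Cfsg.Agent.H31.NatEmbedded
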