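import Cfsg.Agent.Linear.TwoClasses
import Cfsg.Agent.Linear.TwoSL
import Cfsg.Agent.Linear.Unitriangular

/-!
# A natural `SL₂(F)` inside a group acting on `F²`, with a Sylow subgroup in its normalizer
-/

set_option autoImplicit false
set_option linter.unusedSectionVars false

namespace Cfsg.Agent.H31.NatEmbedded

open Subgroup Matrix Cfsg.Agent

variable {G : Type*} [Group G] [Finite G] {F : Type*} [Field F] [Fintype F] {p : ℕ} [Fact p.Prime] [CharP F p]
  [DistribMulAction G (Fin 2 → F)]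

local notation "S2" => Matrix.SpecialLinearGroup (Fin 2) F
local notation "M2" => Matrix (Fin 2) (Fin 2) F
local notation "V2" => (Fin 2 → F)

/-- The hypotheses. -/
structure Setup (G F : Type*) [Group G] [Field F] [Fintype F] (p : ℕ) [Fact p.Prime] [CharP F p]
    [DistribMulAction G (Fin 2 → F)] where
  L : Subgroup G
  ρ : Matrix.SpecialLinearGroup (Fin 2) F →* G
  range : ρ.range = L
  act : ∀ (s : Matrix.SpecialLinearGroup (Fin 2) F) (m : Fin 2 → F),
    ρ s • m = (s : Matrix (Fin 2) (Fin 2) F) *ᵥ m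
  faith : ∀ g : G, (∀ m : Fin 2 → F, g • m = m) → g = 1
  P : Sylow p G
  PN : (P : Subgroup G) ≤ normalizer (L : Set G)
  UP : ∀ t, ρ (Linear.upSL t) ∈ (P : Subgroup G)

/-- `(x, y) ↦` column vector. -/
abbrev e0 : V2 := ![1, 0]

abbrev e1 : V2 := ![0, 1]

theorem vec_eq (m : V2) : m = m 0 • (e0 : V2) + m 1 • (e1 : V2) := by
  ext i; fin_cases i <;> simp

theorem ext2 {x y : V2} (h0 : x 0 = y 0) (h1 : x 1 = y 1) : x = y := by
  ext i; fin_cases i
  exacts [h0, h1]

variable (K : Setup G F p)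

namespace Setup

theorem ρ_mem (s : S2) : K.ρ s ∈ K.L := K.range ▸ ⟨s, rfl⟩

theorem ρ_inj : Function.Injective K.ρ := by
  refine (injective_iff_map_eq_one _).mpr fun s hs => ?_
  ext i j
  have h := congrFun (K.act s (Pi.single j 1)) i
  rw [hs, one_smul] at h
  simpa [Matrix.one_apply, Pi.single_apply, eq_comm] using h.symm

/-- The root element. -/
noncomputable def r (t : F) : G := K.ρ (Linear.upSL t)

theorem r_smul (t : F) (m : V2) : K.r t • m = ![m 0 + t * m 1, m 1] := by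
  rw [r, K.act, Linear.upSL_coe]
  ext i; fin_cases i <;> simp [Matrix.mulVec, dotProduct, Fin.sum_univ_two]

/-- The root group. -/
noncomputable def R : Subgroup G := (Linear.unitriSL 2 F).map K.ρ

theorem mem_R {g : G} : g ∈ K.R ↔ ∃ t, g = K.r t := by
  constructor
  · rintro ⟨s, hs, rfl⟩
    obtain ⟨h10, h00, h11⟩ := Linear.unitriSL_two_eq.mp hs
    refine ⟨(s : M2) 0 1, congrArg K.ρ (Linear.SL_ext_two ?_ ?_ ?_ ?_)⟩ <;> simp [Linear.upSL_coe, h10, h00, h11]
  · rintro ⟨t, rfl⟩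
    exact ⟨_, Linear.unitriSL_two_eq.mpr (by simp [Linear.upSL_coe]), rfl⟩

theorem r_mem (t : F) : K.r t ∈ K.R := K.mem_R.mpr ⟨t, rfl⟩

theorem r_ne_one {t : F} (ht : t ≠ 0) : K.r t ≠ 1 := fun h => ht (by
  have := congrFun (K.r_smul t e1) 0
  rw [h, one_smul] at this
  simpa using this.symm)

theorem R_le_P : K.R ≤ (K.P : Subgroup G) := fun g hg => by
  obtain ⟨t, rfl⟩ := K.mem_R.mp hg
  exact K.UP t

theorem R_le_L : K.R ≤ K.L := fun g hg => by
  obtain ⟨t, rfl⟩ := K.mem_R.mp hg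
  exact K.ρ_mem _

theorem card_R : Nat.card K.R = Fintype.card F := by
  rw [← Nat.card_eq_fintype_card]
  refine (Nat.card_congr (Equiv.ofBijective (fun t => (⟨K.r t, K.r_mem t⟩ : K.R)) ⟨fun a b h => ?_, fun g => ?_⟩)).symm
  · have := congrArg (fun x : G => (x • (e1 : V2)) 0) (congrArg Subtype.val h)
    simpa [K.r_smul] using this
  · obtain ⟨t, ht⟩ := K.mem_R.mp g.2
    exact ⟨t, Subtype.ext ht.symm⟩

theorem R_comm {a b : G} (ha : a ∈ K.R) (hb : b ∈ K.R) : a * b = b * a := by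
  obtain ⟨s, rfl⟩ := K.mem_R.mp ha
  obtain ⟨t, rfl⟩ := K.mem_R.mp hb
  refine inv_mul_eq_one.mp (K.faith _ fun m => ?_)
  rw [mul_smul, inv_smul_eq_iff, mul_smul, mul_smul, K.r_smul, K.r_smul, K.r_smul, K.r_smul]
  ext i; fin_cases i <;> simp [add_assoc, add_comm, add_left_comm]

theorem r_pow (n : ℕ) (t : F) (m : V2) : K.r t ^ n • m = ![m 0 + n * (t * m 1), m 1] := by
  induction n with
  | zero => rw [pow_zero, one_smul]; ext i; fin_cases i <;> simp
  | succ n ih =>
      rw [pow_succ', mul_smul, ih, K.r_smul]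
      ext i; fin_cases i <;> simp [add_mul]; ring

theorem R_pow_p {a : G} (ha : a ∈ K.R) : a ^ p = 1 := by
  obtain ⟨t, rfl⟩ := K.mem_R.mp ha
  refine K.faith _ fun m => ?_
  rw [K.r_pow, CharP.cast_eq_zero]
  ext i; fin_cases i <;> simp

/-- A nontrivial root element fixes exactly the line. -/
theorem fix_iff {x : G} (hx : x ∈ K.R) (h1 : x ≠ 1) (m : V2) : x • m = m ↔ m 1 = 0 := by
  obtain ⟨t, rfl⟩ := K.mem_R.mp hx
  have ht : t ≠ 0 := fun e => h1 (K.faith _ fun v => by
    rw [e, K.r_smul]; ext i; fin_cases i <;> simp)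
  rw [K.r_smul]
  constructor
  · intro h
    have := congrFun h 0
    simpa [ht] using this
  · intro h
    ext i; fin_cases i <;> simp [h]

theorem smul_of_line {x : G} (hx : x ∈ K.R) {m : V2} (hm : m 1 = 0) : x • m = m := by
  by_cases h : x = 1
  · rw [h, one_smul]
  · exact (K.fix_iff hx h m).mpr hm

theorem sub_line {x : G} (hx : x ∈ K.R) (m : V2) : (x • m - m) 1 = 0 := by
  obtain ⟨t, rfl⟩ := K.mem_R.mp hx
  simp [K.r_smul]

theorem inter_le {g : G} (hL : g ∈ K.L) (hP : g ∈ (K.P : Subgroup G)) : g ∈ K.R := by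
  obtain ⟨s, rfl⟩ := K.range.symm ▸ hL
  refine ⟨s, ?_, rfl⟩
  let U := Linear.unitriSylowSL 2 F p
  have hle : (U : Subgroup S2) ≤ (K.P : Subgroup G).comap K.ρ := fun u hu => by
    have := K.R_le_P ⟨u, hu, rfl⟩
    exact this
  have := U.3 (K.P.2.comap_of_injective K.ρ K.ρ_inj) hle
  exact (this ▸ hP : s ∈ (U : Subgroup S2))

theorem P_conj_R {g : G} (hg : g ∈ (K.P : Subgroup G)) {x : G} (hx : x ∈ K.R) : g * x * g⁻¹ ∈ K.R :=
  K.inter_le ((mem_normalizer_iff.mp (K.PN hg) x).mp (K.R_le_L hx))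
    (mul_mem (mul_mem hg (K.R_le_P hx)) (inv_mem hg))

theorem P_line {g : G} (hg : g ∈ (K.P : Subgroup G)) {m : V2} (hm : m 1 = 0) : (g • m) 1 = 0 := by
  have h := K.P_conj_R (inv_mem hg) (K.r_mem 1)
  rw [inv_inv] at h
  refine (K.fix_iff (K.r_mem 1) (K.r_ne_one one_ne_zero) _).mp ?_
  calc K.r 1 • g • m = g • ((g⁻¹ * K.r 1 * g) • m) := by rw [mul_smul, mul_smul, smul_inv_smul]
    _ = g • m := by rw [K.smul_of_line h hm]

/-- An additive map commuting with the upper and lower unitriangular groups is scalar. -/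
theorem scalar_of_comm (f : V2 →+ V2) (hf : ∀ (s : S2) (m : V2), f (K.ρ s • m) = K.ρ s • f m) :
    ∃ c : F, ∀ m, f m = c • m := by
  have hu : ∀ (t : F) (m : V2), f ![m 0 + t * m 1, m 1] = ![f m 0 + t * f m 1, f m 1] := fun t m => by
    have := hf (Linear.upSL t) m
    change f (K.r t • m) = K.r t • f m at this
    rwa [K.r_smul, K.r_smul] at this
  let lo : F → S2 := fun t => ⟨!![1, 0; t, 1], by simp [Matrix.det_fin_two_of]⟩
  have hlo : ∀ (t : F) (m : V2), K.ρ (lo t) • m = ![m 0, t * m 0 + m 1] := fun t m => by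
    rw [K.act]
    ext i; fin_cases i <;> simp [lo, Matrix.mulVec, dotProduct, Fin.sum_univ_two]
  have hl : ∀ (t : F) (m : V2), f ![m 0, t * m 0 + m 1] = ![f m 0, t * f m 0 + f m 1] := fun t m => by
    rw [← hlo, hf, hlo]
  have hzero : f ![0, 0] = 0 := by
    rw [show (![0, 0] : V2) = 0 by ext i; fin_cases i <;> simp, map_zero]
  have ha : ∀ a : F, f ![a, 0] 1 = 0 := fun a => by
    have h := congrFun (hu 1 ![a, 0]) 0
    simpa using h
  have hb : ∀ b : F, f ![0, b] 0 = 0 := fun b => by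
    have h := congrFun (hl 1 ![0, b]) 1
    simpa using h
  have hsplit : ∀ a b : F, f ![a, b] = ![f ![a, 0] 0, f ![0, b] 1] := fun a b => by
    rw [show (![a, b] : V2) = ![a, 0] + ![0, b] by ext i; fin_cases i <;> simp, map_add]
    ext i; fin_cases i <;> simp [ha, hb]
  have hab : ∀ t b : F, f ![t * b, 0] 0 = t * f ![0, b] 1 := fun t b => by
    have h := congrFun (hu t ![0, b]) 0
    simp only [Matrix.cons_val_zero, Matrix.cons_val_one, zero_add, hsplit (t * b) b] at h
    simpa [hb] using h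
  refine ⟨f ![0, 1] 1, fun m => ?_⟩
  have e0' : f ![m 0, 0] 0 = m 0 * f ![0, 1] 1 := by simpa using hab (m 0) 1
  have e1' : f ![0, m 1] 1 = f ![0, 1] 1 * m 1 := by
    have h1 := hab 1 (m 1)
    rw [one_mul, one_mul] at h1
    rw [← h1, mul_comm]
    simpa using hab (m 1) 1
  conv_lhs => rw [show m = ![m 0, m 1] by ext i; fin_cases i <;> simp]
  rw [hsplit, e0', e1']
  ext i; fin_cases i <;> simp [mul_comm]

theorem exists_twist {g : G} (hg : g ∈ normalizer (K.L : Set G)) (c : F) :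
    ∃ d : F, ∀ m : V2, g • (c • m) = d • (g • m) := by
  let f : V2 →+ V2 := AddMonoidHom.mk' (fun m => g • (c • (g⁻¹ • m))) fun a b => by simp [smul_add]
  obtain ⟨d, hd⟩ := K.scalar_of_comm f fun s m => by
    have hm : g⁻¹ * K.ρ s * g ∈ K.L := by
      have := (mem_normalizer_iff.mp (inv_mem hg) _).mp (K.ρ_mem s)
      rwa [inv_inv] at this
    obtain ⟨s', hs'⟩ := K.range.symm ▸ hm
    have key : ∀ v : V2, g • (K.ρ s' • v) = K.ρ s • g • v := fun v => by
      rw [hs', mul_smul, mul_smul, smul_inv_smul]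
    change g • (c • (g⁻¹ • K.ρ s • m)) = K.ρ s • g • (c • (g⁻¹ • m))
    have e : g⁻¹ • K.ρ s • m = K.ρ s' • (g⁻¹ • m) := by
      rw [inv_smul_eq_iff, key, smul_inv_smul]
    rw [e, K.act, ← Matrix.mulVec_smul, ← K.act, key]
  refine ⟨d, fun m => ?_⟩
  have := hd (g • m)
  simpa [f] using this

open Classical in
/-- The field automorphism induced by an element of the normalizer. -/
noncomputable def τ (_K : Setup G F p) (g : G) (c : F) : F :=
  if h : ∃ d : F, ∀ m : V2, g • (c • m) = d • (g • m) then h.choose else 0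

theorem τ_spec {g : G} (hg : g ∈ normalizer (K.L : Set G)) (c : F) (m : V2) :
    g • (c • m) = K.τ g c • (g • m) := by
  have h := K.exists_twist hg c
  rw [τ, dif_pos h]
  exact h.choose_spec m

theorem τ_unique {g : G} (hg : g ∈ normalizer (K.L : Set G)) {c d : F}
    (h : g • (c • (e0 : V2)) = d • (g • e0)) : K.τ g c = d := by
  by_contra hne
  have h2 : (K.τ g c - d) • (g • (e0 : V2)) = 0 := by rw [sub_smul, ← h, ← K.τ_spec hg, sub_self]
  rw [smul_eq_zero, sub_eq_zero] at h2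
  have h3 : (e0 : V2) = 0 := (smul_eq_zero_iff_eq g).mp (h2.resolve_left hne)
  simpa using congrFun h3 0

theorem τ_add {g : G} (hg : g ∈ normalizer (K.L : Set G)) (a b : F) : K.τ g (a + b) = K.τ g a + K.τ g b :=
  K.τ_unique hg (by rw [add_smul, smul_add, K.τ_spec hg, K.τ_spec hg, add_smul])

theorem τ_mul {g : G} (hg : g ∈ normalizer (K.L : Set G)) (a b : F) : K.τ g (a * b) = K.τ g a * K.τ g b :=
  K.τ_unique hg (by rw [mul_smul, K.τ_spec hg, K.τ_spec hg, mul_smul])

theorem τ_one {g : G} (hg : g ∈ normalizer (K.L : Set G)) : K.τ g 1 = 1 :=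
  K.τ_unique hg (by rw [one_smul, one_smul])

/-- `τ` as a ring homomorphism. -/
noncomputable def τHom {g : G} (hg : g ∈ normalizer (K.L : Set G)) : F →+* F where
  toFun := K.τ g
  map_one' := K.τ_one hg
  map_mul' := K.τ_mul hg
  map_zero' := by
    have h := K.τ_add hg 0 0
    rw [add_zero] at h
    simpa using h
  map_add' := K.τ_add hg

theorem τ_comp {g h : G} (hg : g ∈ normalizer (K.L : Set G)) (hh : h ∈ normalizer (K.L : Set G)) (c : F) :
    K.τ (g * h) c = K.τ g (K.τ h c) :=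
  K.τ_unique (mul_mem hg hh) (by rw [mul_smul, mul_smul, K.τ_spec hh, K.τ_spec hg])

theorem τ_of_one (c : F) : K.τ (1 : G) c = c :=
  K.τ_unique (one_mem _) (by rw [one_smul, one_smul])

/-- An element of the Sylow subgroup inducing no field automorphism is a root element. -/
theorem mem_R_of_τ {g : G} (hg : g ∈ (K.P : Subgroup G)) (hτ : ∀ c, K.τ g c = c) : g ∈ K.R := by
  have hgN := K.PN hg
  have hlin : ∀ (c : F) (m : V2), g • (c • m) = c • (g • m) := fun c m => by rw [K.τ_spec hgN, hτ]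
  set a := (g • (e0 : V2)) 0 with ha
  set b := (g • (e1 : V2)) 1 with hb
  set d := (g • (e1 : V2)) 0 with hd
  have h10 : (g • (e0 : V2)) 1 = 0 := K.P_line hg (by simp)
  have hm : ∀ m : V2, g • m = ![m 0 * a + m 1 * d, m 1 * b] := fun m => by
    conv_lhs => rw [vec_eq m, smul_add, hlin, hlin]
    refine ext2 ?_ ?_ <;> simp [ha, hb, hd, h10]
  have hpow : ∀ n : ℕ, (g ^ n • (e0 : V2)) 0 = a ^ n ∧ (g ^ n • (e1 : V2)) 1 = b ^ n ∧
      (g ^ n • (e0 : V2)) 1 = 0 := by
    intro n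
    induction n with
    | zero => simp
    | succ n ih =>
        rw [pow_succ', mul_smul, mul_smul, hm, hm]
        simp [ih.1, ih.2.1, ih.2.2, pow_succ]
  obtain ⟨k, hk⟩ := K.P.2 ⟨g, hg⟩
  have hk' : g ^ p ^ k = 1 := by simpa using congrArg Subtype.val hk
  obtain ⟨h1, h2, -⟩ := hpow (p ^ k)
  rw [hk', one_smul] at h1 h2
  have hone : ∀ x : F, x ^ p ^ k = 1 → x = 1 := fun x hx => by
    have := sub_pow_char_pow (x := x) (y := (1 : F)) (p := p) (n := k)
    rw [hx, one_pow, sub_self] at this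
    exact sub_eq_zero.mp (pow_eq_zero_iff (pow_ne_zero _ (Fact.out : p.Prime).ne_zero) |>.mp this)
  have ha1 : a = 1 := hone a (by simpa using h1.symm)
  have hb1 : b = 1 := hone b (by simpa using h2.symm)
  refine K.mem_R.mpr ⟨d, inv_mul_eq_one.mp (K.faith _ fun m => ?_) |>.symm⟩
  rw [mul_smul, inv_smul_eq_iff, K.r_smul, hm, ha1, hb1]
  ext i; fin_cases i <;> simp [mul_comm]

/-- The isomorphic image of the line. -/
theorem line_mul {g : G} (hg : g ∈ (K.P : Subgroup G)) (c : F) :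
    g • (![c, 0] : V2) = ![K.τ g c * (g • (e0 : V2)) 0, 0] := by
  rw [show (![c, 0] : V2) = c • e0 by ext i; fin_cases i <;> simp, K.τ_spec (K.PN hg)]
  refine ext2 ?_ ?_ <;> simp [K.P_line hg (m := (e0 : V2)) (by simp)]

/-- For odd `p` a quadratic element of the Sylow subgroup is a root element. -/
theorem mem_R_of_quadratic (hp : p ≠ 2) {g : G} (hg : g ∈ (K.P : Subgroup G))
    (hq : ∀ m : V2, g • (g • m - m) = g • m - m) : g ∈ K.R := by
  refine K.mem_R_of_τ hg ?_
  have hgN := K.PN hg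
  set σ := K.τHom hgN with hσ
  have hστ : ∀ c, σ c = K.τ g c := fun _ => rfl
  set a := (g • (e0 : V2)) 0
  have key : ∀ c : F, σ (σ c) * (σ a * a) - σ c * a * 2 + c = 0 := by
    intro c
    have h := congrFun (hq ![c, 0]) 0
    rw [smul_sub, K.line_mul hg, K.line_mul hg] at h
    have hv : (![σ c * a, 0] - ![c, 0] : V2) 0 = σ c * a - c := by simp
    rw [← hστ c] at h
    simp only [Pi.sub_apply, Matrix.cons_val_zero] at h
    rw [← hστ (σ c * a), map_mul] at h
    linear_combination h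
  by_contra hne
  push Not at hne
  obtain ⟨c₀, hc₀⟩ := hne
  rw [← hστ] at hc₀
  have hno2 : ∀ d, σ (σ d) = d := by
    intro d
    by_contra hd
    have e1 := key 1
    have ed := key d
    have ec := key c₀
    have ecd := key (c₀ * d)
    rw [map_one, map_one] at e1
    simp only [map_mul] at ecd
    refine mul_ne_zero (sub_ne_zero.mpr hd) (sub_ne_zero.mpr hc₀) ?_
    linear_combination ecd - σ (σ d) * ec - σ c₀ * (ed - σ (σ d) * e1)
  obtain ⟨k, hk⟩ := K.P.2 ⟨g, hg⟩
  have hk' : g ^ p ^ k = 1 := by simpa using congrArg Subtype.val hk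
  have hit : ∀ n : ℕ, ∀ c, K.τ (g ^ n) c = σ^[n] c := by
    intro n
    induction n with
    | zero => intro c; rw [pow_zero, K.τ_of_one]; rfl
    | succ n ih =>
        intro c
        rw [pow_succ', K.τ_comp hgN (pow_mem hgN n), ih, Function.iterate_succ_apply']
        rfl
  have h := hit (p ^ k) c₀
  rw [hk', K.τ_of_one] at h
  obtain ⟨j, hj⟩ := ((Fact.out : p.Prime).odd_of_ne_two hp).pow (n := k)
  rw [hj, show (σ : F → F)^[2 * j + 1] c₀ = (σ : F → F)^[2 * j] (σ c₀) from Function.iterate_succ_apply _ _ _, Function.iterate_mul] at h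
  rw [Function.iterate_fixed (show σ^[2] (σ c₀) = σ c₀ from hno2 _)] at h
  exact hc₀ h.symm

end Setup

end Cfsg.Agent.H31.NatEmbedded
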