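import Cfsg.Agent.H31.NatEmbedded.Setup

/-!
# Strong closure of the root group makes the spread of root lines invariant
-/

set_option autoImplicit false
set_option linter.unusedSectionVars false

namespace Cfsg.Agent.H31.NatEmbedded

open Subgroup Matrix Cfsg.Agent

variable {G : Type*} [Group G] [Finite G] {F : Type*} [Field F] [Fintype F] {p : ℕ} [Fact p.Prime] [CharP F p]
  [DistribMulAction G (Fin 2 → F)] (K : Setup G F p)

local notation "V2" => (Fin 2 → F)

namespace Setup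

/-- Conjugates of root elements lying in the Sylow subgroup are root elements. -/
def SC : Prop := ∀ h : G, ∀ x ∈ K.R, h * x * h⁻¹ ∈ (K.P : Subgroup G) → h * x * h⁻¹ ∈ K.R

/-- The root group belongs to its line. -/
def LineEq : Prop := ∀ h : G, (∀ m : V2, m 1 = 0 → (h • m) 1 = 0) → ∀ x ∈ K.R, h * x * h⁻¹ ∈ K.R

/-- The elements acting trivially on the line and on the quotient by it. -/
def U (_K : Setup G F p) : Subgroup G where
  carrier := {g | ∀ m : V2, (g • m - m) 1 = 0 ∧ (m 1 = 0 → g • m = m)}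
  one_mem' m := by simp
  mul_mem' {a b} ha hb m := by
    refine ⟨?_, fun hm => by rw [mul_smul, (hb m).2 hm, (ha m).2 hm]⟩
    have h1 := (ha (b • m)).1
    have h2 := (hb m).1
    rw [mul_smul]
    simp only [Pi.sub_apply] at h1 h2 ⊢
    linear_combination h1 + h2
  inv_mem' {a} ha m := by
    have h1 := (ha (a⁻¹ • m)).1
    rw [smul_inv_smul] at h1
    refine ⟨?_, fun hm => by rw [inv_smul_eq_iff, (ha m).2 hm]⟩
    simp only [Pi.sub_apply] at h1 ⊢
    linear_combination -h1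

theorem U_pow {g : G} (hg : g ∈ K.U) : g ^ p = 1 := by
  have h : ∀ (n : ℕ) (m : V2), g ^ n • m = m + n • (g • m - m) := by
    intro n
    induction n with
    | zero => simp
    | succ n ih =>
        intro m
        have h2 : g • (g • m - m) = g • m - m := (hg _).2 (hg m).1
        have h3 : g • (n • (g • m - m)) = n • (g • m - m) := by rw [smul_comm, h2]
        rw [pow_succ', mul_smul, ih, smul_add, h3, succ_nsmul]
        abel
  refine K.faith _ fun m => ?_
  rw [h, ← Nat.cast_smul_eq_nsmul F, CharP.cast_eq_zero, zero_smul, add_zero]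

theorem conj_mem_U {h x : G} (hh : ∀ m : V2, m 1 = 0 → (h • m) 1 = 0) (hx : x ∈ K.R) :
    h * x * h⁻¹ ∈ K.U := by
  intro m
  have e : (h * x * h⁻¹) • m - m = h • (x • (h⁻¹ • m) - h⁻¹ • m) := by
    rw [smul_sub, smul_inv_smul, mul_smul, mul_smul]
  refine ⟨e ▸ hh _ (K.sub_line hx _), fun hm => ?_⟩
  have hi : (h⁻¹ • m) 1 = 0 := by
    by_contra hne
    -- the line is mapped onto itself
    let f : {v : V2 // v 1 = 0} → {v : V2 // v 1 = 0} := fun v => ⟨h • (v : V2), hh _ v.2⟩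
    have hf : Function.Injective f := fun a b hab => Subtype.ext (MulAction.injective h (congrArg Subtype.val hab))
    obtain ⟨v, hv⟩ := (Finite.injective_iff_surjective.mp hf) ⟨m, hm⟩
    have hv' : h • (v : V2) = m := congrArg Subtype.val hv
    rw [← hv', inv_smul_smul] at hne
    exact hne v.2
  rw [← sub_eq_zero, e, K.smul_of_line hx hi, sub_self, smul_zero]

theorem R_le_U : K.R ≤ K.U := fun x hx => by simpa using K.conj_mem_U (h := 1) (fun m hm => by simpa using hm) hx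

theorem exists_conj_P {Q : Subgroup G} (hQ : IsPGroup p Q) : ∃ k : G, ∀ u ∈ Q, k⁻¹ * u * k ∈ (K.P : Subgroup G) := by
  obtain ⟨T, hT⟩ := hQ.exists_le_sylow
  obtain ⟨k, hk⟩ := MulAction.exists_smul_eq G K.P T
  refine ⟨k, fun u hu => ?_⟩
  have := hT hu
  rw [← hk, Sylow.coe_subgroup_smul] at this
  obtain ⟨v, hv, hv'⟩ := this
  rw [← hv']
  simp only [MulDistribMulAction.toMonoidEnd_apply, MulDistribMulAction.toMonoidHom_apply, MulAut.smul_def, MulAut.conj_apply]
  rw [show k⁻¹ * (k * v * k⁻¹) * k = v by group]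
  exact hv

theorem U_isPGroup : IsPGroup p K.U := fun g =>
  ⟨1, Subtype.ext (by rw [pow_one, coe_pow, coe_one]; exact K.U_pow g.2)⟩

/-- Conjugation by `k⁻¹` mapping the root group into itself maps it onto itself. -/
theorem conj_surj {k : G} (hk : ∀ x ∈ K.R, k⁻¹ * x * k ∈ K.R) {x : G} (hx : x ∈ K.R) : k * x * k⁻¹ ∈ K.R := by
  let f : K.R → K.R := fun y => ⟨k⁻¹ * (y : G) * k, hk _ y.2⟩
  have hf : Function.Injective f := fun a b hab =>
    Subtype.ext (mul_left_cancel (mul_right_cancel (congrArg Subtype.val hab)))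
  obtain ⟨y, hy⟩ := (Finite.injective_iff_surjective.mp hf) ⟨x, hx⟩
  have hy' : k⁻¹ * (y : G) * k = x := congrArg Subtype.val hy
  rw [← hy', show k * (k⁻¹ * (y : G) * k) * k⁻¹ = y by group]
  exact y.2

theorem lineEq_of_sc (hSC : K.SC) : K.LineEq := by
  intro h hh x hx
  obtain ⟨k, hk⟩ := K.exists_conj_P K.U_isPGroup
  have h1 : ∀ y ∈ K.R, k⁻¹ * y * k ∈ K.R := fun y hy => by
    simpa using hSC k⁻¹ y hy (by simpa using hk y (K.R_le_U hy))
  have h2 : k⁻¹ * (h * x * h⁻¹) * k ∈ K.R := by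
    have := hSC (k⁻¹ * h) x hx (by simpa [mul_assoc] using hk _ (K.conj_mem_U hh hx))
    simpa [mul_assoc] using this
  simpa [mul_assoc] using K.conj_surj h1 h2

/-- Two root lines are equal or disjoint. -/
theorem line_of_meet (hSC : K.SC) (h : G) {m₁ : V2} (h₁ : m₁ 1 = 0) (hne : m₁ ≠ 0) (hh : (h • m₁) 1 = 0) :
    ∀ m : V2, m 1 = 0 → (h • m) 1 = 0 := by
  intro m₀ h₀
  by_contra hw
  set u := h • m₁ with hu
  set w := h • m₀ with hwdef
  have hune : u ≠ 0 := fun e => hne ((smul_eq_zero_iff_eq h).mp e)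
  have hu0 : u 0 ≠ 0 := fun e => hune (ext2 (by simpa using e) (by simpa using hh))
  set x := K.r (u 0 / w 1) with hxdef
  have hxR : x ∈ K.R := K.r_mem _
  have hx1 : x ≠ 1 := K.r_ne_one (div_ne_zero hu0 hw)
  have hxw : x • w = w + u := by
    rw [hxdef, K.r_smul, div_mul_cancel₀ _ hw]
    refine ext2 ?_ ?_ <;> simp [hh]
  set y := h * K.r 1 * h⁻¹ with hydef
  have hyfix : ∀ m : V2, m 1 = 0 → y • (h • m) = h • m := fun m hm => by
    rw [hydef, mul_smul, mul_smul, inv_smul_smul, K.smul_of_line (K.r_mem 1) hm]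
  have hxu : x • u = u := K.smul_of_line hxR hh
  set H := Subgroup.closure ({x, y} : Set G) with hH
  have hHu : ∀ k ∈ H, k • u = u := by
    intro k hk
    induction hk using Subgroup.closure_induction with
    | mem z hz =>
        rcases hz with rfl | rfl
        exacts [hxu, hyfix _ h₁]
    | one => simp
    | mul a b _ _ ha hb => rw [mul_smul, hb, ha]
    | inv a _ ha => rw [inv_smul_eq_iff, ha]
  have hHw : ∀ k ∈ H, ∃ n : ℤ, k • w = w + n • u := by
    intro k hk
    induction hk using Subgroup.closure_induction with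
    | mem z hz =>
        rcases hz with rfl | rfl
        · exact ⟨1, by rw [hxw, one_smul]⟩
        · exact ⟨0, by rw [hyfix _ h₀, zero_smul, add_zero]⟩
    | one => exact ⟨0, by simp⟩
    | mul a b hac _ ha hb =>
        obtain ⟨n, hn⟩ := ha
        obtain ⟨n', hn'⟩ := hb
        refine ⟨n + n', ?_⟩
        have : a • (n' • u) = n' • u := by rw [smul_comm, hHu a hac]
        rw [mul_smul, hn', smul_add, hn, this, add_smul, add_assoc]
    | inv a hac ha =>
        obtain ⟨n, hn⟩ := ha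
        refine ⟨-n, ?_⟩
        have : a • (n • u) = n • u := by rw [smul_comm, hHu a hac]
        rw [inv_smul_eq_iff, smul_add, hn, neg_smul, smul_neg, this]
        abel
  have hxH : x ∈ H := subset_closure (by simp)
  have hyH : y ∈ H := subset_closure (by simp)
  have hxp : (⟨x, hxH⟩ : H) ^ p = 1 := Subtype.ext (by simpa using K.R_pow_p hxR)
  have hyp : (⟨y, hyH⟩ : H) ^ p = 1 := Subtype.ext (by
    have : y ^ p = 1 := by rw [hydef, conj_pow, K.R_pow_p (K.r_mem 1)]; group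
    simpa using this)
  have hcyc : ∀ z : H, z ^ p = 1 → IsPGroup p (zpowers z) := fun z hz a => by
    obtain ⟨i, hi⟩ := mem_zpowers_iff.mp a.2
    refine ⟨1, Subtype.ext ?_⟩
    rw [pow_one, coe_pow, coe_one, ← hi, ← _root_.zpow_natCast, ← _root_.zpow_mul, mul_comm, _root_.zpow_mul, _root_.zpow_natCast, hz, _root_.one_zpow]
  obtain ⟨Q, hQ⟩ := (hcyc _ hxp).exists_le_sylow
  obtain ⟨Q', hQ'⟩ := (hcyc _ hyp).exists_le_sylow
  obtain ⟨c, hc⟩ := MulAction.exists_smul_eq H Q' Q
  have hcy : c * ⟨y, hyH⟩ * c⁻¹ ∈ (Q : Subgroup H) := by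
    rw [← hc, Sylow.coe_subgroup_smul]
    exact ⟨_, hQ' (mem_zpowers _), rfl⟩
  have hxQ : (⟨x, hxH⟩ : H) ∈ (Q : Subgroup H) := hQ (mem_zpowers _)
  obtain ⟨n, hn⟩ := hHw c c.2
  set k₀ : H := (⟨x, hxH⟩ : H) ^ (-n) * c with hk₀
  have hxn : ∀ i : ℤ, x ^ i • w = w + i • u := by
    have hs : ∀ i : ℤ, x • (i • u) = i • u := fun i => by rw [smul_comm, hxu]
    intro i
    induction i using Int.induction_on with
    | zero => simp
    | succ i ih =>
        rw [_root_.zpow_add_one, mul_smul, hxw, smul_add, ih,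
          show x ^ (i : ℤ) • u = u from hHu _ (zpow_mem hxH _), add_smul, one_smul]
        abel
    | pred i ih =>
        rw [_root_.zpow_sub_one, mul_smul]
        have : x⁻¹ • w = w - u := by
          rw [inv_smul_eq_iff, smul_sub, hxw, hxu]; abel
        rw [this, smul_sub, ih, show x ^ (-(i : ℤ)) • u = u from hHu _ (zpow_mem hxH _), sub_smul, one_smul]
        abel
  have hk₀w : (k₀ : G) • w = w := by
    have : x ^ (-n) • (n • u) = n • u := by rw [smul_comm, hHu _ (zpow_mem hxH _)]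
    rw [hk₀, coe_mul, coe_zpow, mul_smul, hn, smul_add, hxn, this, neg_smul]
    abel
  have hk₀y : k₀ * ⟨y, hyH⟩ * k₀⁻¹ ∈ (Q : Subgroup H) := by
    have := mul_mem (mul_mem (zpow_mem hxQ (-n)) hcy) (inv_mem (zpow_mem hxQ (-n)))
    rw [hk₀, _root_.mul_inv_rev]
    simpa [mul_assoc] using this
  obtain ⟨a, ha⟩ := K.exists_conj_P (Q.2.map H.subtype)
  have hax : a⁻¹ * x * a ∈ K.R := by
    simpa using hSC a⁻¹ x hxR (by simpa using ha x ⟨_, hxQ, rfl⟩)
  have haline : ∀ m : V2, m 1 = 0 → (a • m) 1 = 0 := fun m hm => by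
    refine (K.fix_iff hxR hx1 _).mp ?_
    rw [← mul_smul x, show x * a = a * (a⁻¹ * x * a) by group, mul_smul, K.smul_of_line hax hm]
  have hay : a⁻¹ * ((k₀ : G) * h) * K.r 1 * (a⁻¹ * ((k₀ : G) * h))⁻¹ ∈ K.R := by
    refine hSC _ _ (K.r_mem 1) ?_
    have := ha _ ⟨_, hk₀y, rfl⟩
    simpa [hydef, mul_assoc] using this
  set b := a⁻¹ * ((k₀ : G) * h) with hb
  have hne1 : b * K.r 1 * b⁻¹ ≠ 1 := fun e => K.r_ne_one one_ne_zero (by
    calc K.r 1 = b⁻¹ * (b * K.r 1 * b⁻¹) * b := by group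
      _ = 1 := by rw [e]; group)
  have hbline : (b • m₀) 1 = 0 := (K.fix_iff hay hne1 _).mp (by
    rw [mul_smul, mul_smul, inv_smul_smul, K.smul_of_line (K.r_mem 1) h₀])
  have := haline _ hbline
  rw [hb, mul_smul, smul_inv_smul, mul_smul, ← hwdef, hk₀w] at this
  exact hw this

/-- Strong closure of the root group makes `L` normal. -/
theorem normal_of_sc (hSC : K.SC) : K.L.Normal := by
  classical
  have key : ∀ g : G, ∀ x ∈ K.R, g * x * g⁻¹ ∈ K.L := by
    intro g x hx
    have hv : g • (e0 : V2) ≠ 0 := fun e => by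
      simpa using congrFun ((smul_eq_zero_iff_eq g).mp e) 0
    obtain ⟨s, hs⟩ : ∃ s : Matrix.SpecialLinearGroup (Fin 2) F, (s : Matrix (Fin 2) (Fin 2) F) *ᵥ e0 = g • e0 := by
      by_cases h0 : (g • (e0 : V2)) 0 = 0
      · have h1 : (g • (e0 : V2)) 1 ≠ 0 := fun h1 => hv (ext2 (by simpa using h0) (by simpa using h1))
        refine ⟨⟨!![0, -((g • (e0 : V2)) 1)⁻¹; (g • (e0 : V2)) 1, 0], by simp [Matrix.det_fin_two_of, h1]⟩, ?_⟩
        refine ext2 ?_ ?_ <;> simp [Matrix.mulVec, dotProduct, Fin.sum_univ_two, h0]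
      · refine ⟨⟨!![(g • (e0 : V2)) 0, 0; (g • (e0 : V2)) 1, ((g • (e0 : V2)) 0)⁻¹],
          by simp [Matrix.det_fin_two_of, h0]⟩, ?_⟩
        refine ext2 ?_ ?_ <;> simp [Matrix.mulVec, dotProduct, Fin.sum_univ_two]
    set h := (K.ρ s)⁻¹ * g with hh
    have he : h • (e0 : V2) = e0 := by rw [hh, mul_smul, inv_smul_eq_iff, K.act, hs]
    have hline := K.line_of_meet hSC h (m₁ := (e0 : V2)) (by simp) (fun e => by simpa using congrFun e 0)
      (by rw [he]; simp)
    have := K.R_le_L (K.lineEq_of_sc hSC h hline x hx)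
    have h2 := mul_mem (mul_mem (K.ρ_mem s) this) (inv_mem (K.ρ_mem s))
    simpa [hh, mul_assoc] using h2
  refine ⟨fun n hn g => ?_⟩
  obtain ⟨s, rfl⟩ := K.range.symm ▸ hn
  let C : Subgroup (Matrix.SpecialLinearGroup (Fin 2) F) := K.L.comap ((MulAut.conj g).toMonoidHom.comp K.ρ)
  suffices hC : C = ⊤ from (hC ▸ mem_top s : s ∈ C)
  let w : Matrix.SpecialLinearGroup (Fin 2) F := ⟨!![0, -1; 1, 0], by simp [Matrix.det_fin_two_of]⟩
  rw [eq_top_iff, ← Linear.unitriSL_sup_conj_eq_top (g := w) (by simp [w])]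
  refine sup_le (fun u hu => key g (K.ρ u) ⟨u, hu, rfl⟩) fun u hu => ?_
  rw [mem_pointwise_smul_iff_inv_smul_mem] at hu
  have := key (g * K.ρ w) (K.ρ (w⁻¹ * u * w)) ⟨_, by simpa [mul_assoc] using hu, rfl⟩
  show g * K.ρ u * g⁻¹ ∈ K.L
  simpa [map_mul, mul_assoc] using this

/-- For odd `p` the root group is strongly closed. -/
theorem sc_of_odd (hp : p ≠ 2) : K.SC := by
  intro h x hx hP
  refine K.mem_R_of_quadratic hp hP fun m => ?_
  have e : (h * x * h⁻¹) • m - m = h • (x • (h⁻¹ • m) - h⁻¹ • m) := by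
    rw [smul_sub, smul_inv_smul, mul_smul, mul_smul]
  rw [e, mul_smul, mul_smul, inv_smul_smul, K.smul_of_line hx (K.sub_line hx _)]

theorem sc_of_le (hPR : (K.P : Subgroup G) ≤ K.R) : K.SC := fun _ _ _ hP => hPR hP

end Setup

end Cfsg.Agent.H31.NatEmbedded
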