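import Cfsg.Agent.H31.NatEmbedded.Spread

/-!
# Characteristic two: the root group is strongly closed as soon as `|F| > 4`
-/

set_option autoImplicit false
set_option linter.unusedSectionVars false

namespace Cfsg.Agent.H31.NatEmbedded

open Subgroup Matrix Cfsg.Agent

variable {G : Type*} [Group G] [Finite G] {F : Type*} [Field F] [Fintype F]

/-- A finite field has at most one involutive automorphism apart from the identity. -/
theorem involution_unique (p : ℕ) [Fact p.Prime] [CharP F p] (σ σ' : F →+* F) (h : ∀ c, σ (σ c) = c) (h' : ∀ c, σ' (σ' c) = c)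
    (hne : ∃ c, σ c ≠ c) (hne' : ∃ c, σ' c ≠ c) : ∀ c, σ c = σ' c := by
  classical
  letI : Algebra (ZMod p) F := ZMod.algebra F p
  let mk : ∀ s : F →+* F, (∀ c, s (s c) = c) → Gal(F/ZMod p) := fun s hs =>
    { toFun := s
      invFun := s
      left_inv := hs
      right_inv := hs
      map_mul' := map_mul s
      map_add' := map_add s
      commutes' := fun r => RingHom.congr_fun (Subsingleton.elim (s.comp (algebraMap (ZMod p) F)) (algebraMap (ZMod p) F)) r }
  set a := mk σ h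
  set b := mk σ' h'
  have ha : a ^ 2 = 1 := by rw [sq]; exact AlgEquiv.ext h
  have hb : b ^ 2 = 1 := by rw [sq]; exact AlgEquiv.ext h'
  have ha1 : a ≠ 1 := fun e => hne.elim fun c hc => hc (AlgEquiv.congr_fun e c)
  have hb1 : b ≠ 1 := fun e => hne'.elim fun c hc => hc (AlgEquiv.congr_fun e c)
  by_contra hcon
  have hab : a ≠ b := fun e => hcon fun c => AlgEquiv.congr_fun e c
  haveI : Fintype Gal(F/ZMod p) := Fintype.ofFinite _
  have := IsCyclic.card_pow_eq_one_le (α := Gal(F/ZMod p)) (n := 2) two_pos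
  refine absurd this (not_le.mpr (lt_of_lt_of_le ?_ (Finset.card_le_card (s := ({1, a, b} : Finset _)) ?_)))
  · rw [Finset.card_insert_of_notMem (by simp [ha1.symm, hb1.symm]), Finset.card_pair hab]; norm_num
  · intro x hx
    simp only [Finset.mem_insert, Finset.mem_singleton] at hx
    rcases hx with rfl | rfl | rfl <;> simp [ha, hb]

variable [CharP F 2] [DistribMulAction G (Fin 2 → F)] (K : Setup G F 2)

local notation "V2" => (Fin 2 → F)

namespace Setup

theorem exists_moved {g : G} (hg : g ∈ (K.P : Subgroup G)) (hgR : g ∉ K.R) : ∃ c, K.τHom (K.PN hg) c ≠ c := by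
  by_contra h
  push Not at h
  exact hgR (K.mem_R_of_τ hg h)

theorem τHom_apply {g : G} (hg : g ∈ normalizer (K.L : Set G)) (c : F) : K.τHom hg c = K.τ g c := rfl

/-- Two elements outside the root group inducing involutive automorphisms differ by a root element. -/
theorem mul_mem_R {e e' : G} (he : e ∈ (K.P : Subgroup G)) (he' : e' ∈ (K.P : Subgroup G))
    (hs : ∀ c, K.τ e (K.τ e c) = c) (hs' : ∀ c, K.τ e' (K.τ e' c) = c) (heR : e ∉ K.R) (he'R : e' ∉ K.R) :
    e * e' ∈ K.R := by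
  refine K.mem_R_of_τ (mul_mem he he') fun c => ?_
  rw [K.τ_comp (K.PN he) (K.PN he')]
  have h := involution_unique 2 (K.τHom (K.PN he)) (K.τHom (K.PN he')) hs hs' (K.exists_moved he heR)
    (K.exists_moved he' he'R)
  rw [← K.τHom_apply (K.PN he') c, ← h, K.τHom_apply, hs]

theorem τ_of_sq {e : G} (he : e ∈ (K.P : Subgroup G)) (h2 : e * e = 1) (c : F) : K.τ e (K.τ e c) = c := by
  rw [← K.τ_comp (K.PN he) (K.PN he), h2, K.τ_of_one]

/-- An element outside the root group centralizes at most the square root of it. -/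
theorem card_centralized_sq_le {e : G} (he : e ∈ (K.P : Subgroup G)) (heR : e ∉ K.R) (T : Subgroup G) (hTR : T ≤ K.R)
    (hc : ∀ x ∈ T, e * x = x * e) : Nat.card T * Nat.card T ≤ Fintype.card F := by
  classical
  set a := (e • (e0 : V2)) 0 with ha
  set b := (e • (e1 : V2)) 1 with hb
  have heN := K.PN he
  have ha0 : a ≠ 0 := fun h => by
    have h0 : e • (e0 : V2) = 0 := ext2 (by simpa [ha] using h) (by simpa using K.P_line he (m := (e0 : V2)) (by simp))
    simpa using congrFun ((smul_eq_zero_iff_eq e).mp h0) 0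
  have hb0 : b ≠ 0 := fun h => by
    have h1 := K.P_line (inv_mem he) (m := e • (e1 : V2)) h
    rw [inv_smul_smul] at h1
    simp at h1
  have hrel : ∀ t, K.r t ∈ T → K.τ e t * a = t * b := by
    intro t ht
    have h := congrArg (fun g : G => (g • (e1 : V2)) 0) (hc _ ht)
    simp only [mul_smul] at h
    have h1 : K.r t • (e1 : V2) = t • (e0 : V2) + e1 := by
      rw [K.r_smul]; refine ext2 ?_ ?_ <;> simp
    rw [h1, smul_add, K.τ_spec heN, K.r_smul] at h
    simp only [Pi.add_apply, Pi.smul_apply, smul_eq_mul, Matrix.cons_val_zero] at h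
    linear_combination h
  obtain ⟨c, hcc⟩ := K.exists_moved he heR
  rw [K.τHom_apply] at hcc
  have hp : ∀ x : T, ∃ t, (x : G) = K.r t := fun x => K.mem_R.mp (hTR x.2)
  choose f hf using hp
  rw [← Nat.card_prod, ← Nat.card_eq_fintype_card]
  refine Nat.card_le_card_of_injective (fun z : T × T => f z.1 + c * f z.2) ?_
  rintro ⟨x, y⟩ ⟨x', y'⟩ hxy
  have r1 := hrel _ (hf x ▸ x.2)
  have r2 := hrel _ (hf y ▸ y.2)
  have r3 := hrel _ (hf x' ▸ x'.2)
  have r4 := hrel _ (hf y' ▸ y'.2)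
  change f x + c * f y = f x' + c * f y' at hxy
  have h := congrArg (K.τ e) hxy
  rw [K.τ_add heN, K.τ_mul heN, K.τ_add heN, K.τ_mul heN] at h
  have hy : f y = f y' := by
    have : (K.τ e c - c) * b * (f y - f y') = 0 := by
      linear_combination a * h - r1 - K.τ e c * r2 + r3 + K.τ e c * r4 - b * hxy
    simpa [sub_eq_zero, hcc, hb0] using this
  have hx : f x = f x' := by rw [hy] at hxy; exact add_right_cancel hxy
  exact Prod.ext (Subtype.ext (by rw [hf x, hf x', hx])) (Subtype.ext (by rw [hf y, hf y', hy]))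

theorem exists_card_le {E : Subgroup G} (hE : E ≤ (K.P : Subgroup G)) (h2 : ∀ g ∈ E, g * g = 1) {e : G} (he : e ∈ E)
    (heR : e ∉ K.R) : Nat.card E ≤ 2 * Nat.card ↥(E ⊓ K.R) := by
  classical
  rw [show 2 * Nat.card ↥(E ⊓ K.R) = Nat.card (Bool × ↥(E ⊓ K.R)) by rw [Nat.card_prod]; simp]
  have hm : ∀ g : E, (g : G) ∉ K.R → (g : G) * e ∈ E ⊓ K.R := fun g hg =>
    ⟨mul_mem g.2 he, K.mul_mem_R (hE g.2) (hE he) (K.τ_of_sq (hE g.2) (h2 _ g.2)) (K.τ_of_sq (hE he) (h2 _ he)) hg heR⟩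
  refine Nat.card_le_card_of_injective (fun g : E => if h : (g : G) ∈ K.R then (true, (⟨g, g.2, h⟩ : ↥(E ⊓ K.R)))
    else (false, ⟨_, hm g h⟩)) fun g g' h => ?_
  by_cases h1 : (g : G) ∈ K.R <;> by_cases h2 : (g' : G) ∈ K.R <;> simp [h1, h2] at h
  · exact Subtype.ext (congrArg Subtype.val h :)
  · exact h

theorem E_inf_R_lt {E : Subgroup G} (hE : E ≤ (K.P : Subgroup G)) (h2 : ∀ g ∈ E, g * g = 1) {e : G} (he : e ∈ E)
    (heR : e ∉ K.R) : Nat.card ↥(E ⊓ K.R) * Nat.card ↥(E ⊓ K.R) ≤ Fintype.card F := by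
  refine K.card_centralized_sq_le (hE he) heR _ inf_le_right fun x hx => ?_
  have h1 := h2 _ (mul_mem he hx.1)
  have hi : ∀ g ∈ E, g⁻¹ = g := fun g hg => inv_eq_of_mul_eq_one_right (h2 g hg)
  calc e * x = (e * x)⁻¹ := (inv_eq_of_mul_eq_one_right h1).symm
    _ = x * e := by rw [_root_.mul_inv_rev, hi _ hx.1, hi _ he]

/-- For `|F| > 4` the root group is the only elementary abelian subgroup of its order in the Sylow subgroup. -/
theorem eq_R (h4 : 4 < Fintype.card F) {E : Subgroup G} (hE : E ≤ (K.P : Subgroup G)) (h2 : ∀ g ∈ E, g * g = 1)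
    (hc : Nat.card E = Fintype.card F) : E = K.R := by
  refine Subgroup.eq_of_le_of_card_ge (fun e he => ?_) (by rw [K.card_R, hc])
  by_contra heR
  have a1 := K.exists_card_le hE h2 he heR
  have a2 := K.E_inf_R_lt hE h2 he heR
  rw [hc] at a1
  nlinarith

theorem conj_eq_R (h4 : 4 < Fintype.card F) (g : G) (hg : ∀ x ∈ K.R, g * x * g⁻¹ ∈ (K.P : Subgroup G)) :
    ∀ x ∈ K.R, g * x * g⁻¹ ∈ K.R := by
  intro x hx
  have hE : K.R.map (MulAut.conj g).toMonoidHom = K.R := by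
    refine K.eq_R h4 ?_ ?_ ?_
    · rintro _ ⟨y, hy, rfl⟩; exact hg y hy
    · rintro _ ⟨y, hy, rfl⟩
      show g * y * g⁻¹ * (g * y * g⁻¹) = 1
      rw [show g * y * g⁻¹ * (g * y * g⁻¹) = g * (y * y) * g⁻¹ by group, ← sq, K.R_pow_p hy]
      group
    · rw [← (Nat.card_congr (K.R.equivMapOfInjective _ (MulAut.conj g).injective).toEquiv), K.card_R]
  exact hE ▸ ⟨x, hx, rfl⟩

theorem lineEq_of_card (h4 : 4 < Fintype.card F) : K.LineEq := by
  intro h hh x hx
  obtain ⟨k, hk⟩ := K.exists_conj_P K.U_isPGroup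
  have h1 : ∀ y ∈ K.R, k⁻¹ * y * k ∈ K.R := fun y hy => by
    simpa using K.conj_eq_R h4 k⁻¹ (fun z hz => by simpa using hk z (K.R_le_U hz)) y hy
  have h2 : k⁻¹ * (h * x * h⁻¹) * k ∈ K.R := by
    have := K.conj_eq_R h4 (k⁻¹ * h) (fun z hz => by simpa [mul_assoc] using hk _ (K.conj_mem_U hh hz)) x hx
    simpa [mul_assoc] using this
  simpa [mul_assoc] using K.conj_surj h1 h2

theorem sc_of_card (h4 : 4 < Fintype.card F) : K.SC := by
  intro h x hx hP
  set y := h * x * h⁻¹ with hy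
  by_contra hyR
  have hy2 : y * y = 1 := by
    rw [hy, show h * x * h⁻¹ * (h * x * h⁻¹) = h * (x * x) * h⁻¹ by group, ← sq, K.R_pow_p hx]; group
  -- the centralizer of `y` in the root group is large
  have hyinv : y⁻¹ = y := inv_eq_of_mul_eq_one_right hy2
  let θ : K.R →* K.R := MonoidHom.mk' (fun r => ⟨(r : G) * (y * r * y⁻¹), mul_mem r.2 (K.P_conj_R hP r.2)⟩)
    fun r s => Subtype.ext (by
      change (r : G) * s * (y * (r * s) * y⁻¹) = (r : G) * (y * r * y⁻¹) * (s * (y * s * y⁻¹))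
      rw [show y * ((r : G) * s) * y⁻¹ = (y * r * y⁻¹) * (y * s * y⁻¹) by group]
      calc (r : G) * s * ((y * r * y⁻¹) * (y * s * y⁻¹)) = r * (s * (y * r * y⁻¹)) * (y * s * y⁻¹) := by group
        _ = r * ((y * r * y⁻¹) * s) * (y * s * y⁻¹) := by rw [K.R_comm s.2 (K.P_conj_R hP r.2)]
        _ = _ := by group)
  set C0 : Subgroup G := θ.ker.map K.R.subtype with hC0
  have hC0R : C0 ≤ K.R := map_subtype_le _
  have hC0c : ∀ r ∈ C0, y * r = r * y := by
    rintro _ ⟨r, hr, rfl⟩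
    have h0 : (r : G) * (y * r * y⁻¹) = 1 := congrArg Subtype.val hr
    have h1 : y * r * y⁻¹ = (r : G) := by
      rw [eq_inv_of_mul_eq_one_right h0]
      exact inv_eq_of_mul_eq_one_right (by rw [← sq]; exact K.R_pow_p r.2)
    rw [Subgroup.coe_subtype]
    exact mul_inv_eq_iff_eq_mul.mp h1
  have hC0card : Fintype.card F ≤ Nat.card C0 * Nat.card C0 := by
    rw [hC0, ← Nat.card_congr (θ.ker.equivMapOfInjective _ K.R.subtype_injective).toEquiv, ← K.card_R,
      ← θ.ker.card_mul_index, index_ker]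
    refine Nat.mul_le_mul_left _ (Subgroup.card_le_of_le ?_)
    rintro _ ⟨r, rfl⟩
    refine Subtype.ext ?_
    show (r : G) * (y * r * y⁻¹) * (y * (r * (y * r * y⁻¹)) * y⁻¹) = 1
    have e : y * ((r : G) * (y * r * y⁻¹)) * y⁻¹ = (y * r * y⁻¹) * (y * y * r * (y * y)⁻¹) := by group
    rw [e, hy2, inv_one, one_mul, mul_one]
    have hr' := K.P_conj_R hP r.2
    calc (r : G) * (y * r * y⁻¹) * (y * r * y⁻¹ * r) = r * ((y * r * y⁻¹) * (y * r * y⁻¹)) * r := by group
      _ = r * r := by rw [← sq (y * r * y⁻¹), K.R_pow_p hr', mul_one]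
      _ = 1 := by rw [← sq, K.R_pow_p r.2]
  -- a Sylow subgroup of the centralizer of `y` containing `C0` meets a conjugate root group
  set C := centralizer ({y} : Set G)
  have hC0C : C0 ≤ C := fun r hr => mem_centralizer_singleton_iff.mpr (hC0c r hr).symm
  have hR'C : K.R.map (MulAut.conj h).toMonoidHom ≤ C := by
    rintro _ ⟨r, hr, rfl⟩
    refine mem_centralizer_singleton_iff.mpr ?_
    show h * r * h⁻¹ * y = y * (h * r * h⁻¹)
    rw [hy, show h * r * h⁻¹ * (h * x * h⁻¹) = h * (r * x) * h⁻¹ by group, K.R_comm hr hx]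
    group
  obtain ⟨Q, hQ⟩ := ((K.P.2.to_le (hC0R.trans K.R_le_P)).comap_of_injective C.subtype C.subtype_injective).exists_le_sylow
  obtain ⟨Q', hQ'⟩ := (((K.P.2.to_le K.R_le_P).map (MulAut.conj h).toMonoidHom).comap_of_injective C.subtype
    C.subtype_injective).exists_le_sylow
  obtain ⟨c, hc⟩ := MulAction.exists_smul_eq C Q' Q
  obtain ⟨k, hk⟩ := K.exists_conj_P (Q.2.map C.subtype)
  have hin : ∀ r ∈ K.R, (c : G) * (h * r * h⁻¹) * (c : G)⁻¹ ∈ (Q : Subgroup C).map C.subtype := by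
    intro r hr
    refine ⟨c * ⟨h * r * h⁻¹, hR'C ⟨r, hr, rfl⟩⟩ * c⁻¹, ?_, rfl⟩
    rw [← hc, SetLike.mem_coe, Sylow.coe_subgroup_smul]
    exact ⟨⟨h * r * h⁻¹, hR'C ⟨r, hr, rfl⟩⟩, hQ' (show (⟨h * r * h⁻¹, hR'C ⟨r, hr, rfl⟩⟩ : C) ∈ _ from ⟨r, hr, rfl⟩), rfl⟩
  have hkR : ∀ r ∈ K.R, k⁻¹ * ((c : G) * (h * r * h⁻¹) * (c : G)⁻¹) * k ∈ K.R := fun r hr => by
    have := K.conj_eq_R h4 (k⁻¹ * c * h) (fun z hz => by simpa [mul_assoc] using hk _ (hin z hz)) r hr
    simpa [mul_assoc] using this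
  have hyk : k⁻¹ * y * k ∈ K.R := by
    have := hkR x hx
    rwa [← hy, ← mem_centralizer_singleton_iff.mp c.2 |>.symm, mul_inv_cancel_right] at this
  set D := C0.map (MulAut.conj k⁻¹).toMonoidHom with hD
  have hDP : D ≤ (K.P : Subgroup G) := by
    rintro _ ⟨r, hr, rfl⟩
    have : (⟨r, hC0C hr⟩ : C) ∈ (Q : Subgroup C) := hQ hr
    simpa [mul_assoc] using hk r ⟨_, this, rfl⟩
  have hDcard : Nat.card D = Nat.card C0 :=
    (Nat.card_congr (C0.equivMapOfInjective _ (MulAut.conj k⁻¹).injective).toEquiv).symm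
  obtain ⟨z, hzD, hzR, hz1⟩ : ∃ z ∈ D, z ∈ K.R ∧ z ≠ 1 := by
    by_contra hno
    push Not at hno
    have hsq : ∀ g ∈ D, g * g = 1 := by
      rintro _ ⟨r, hr, rfl⟩
      show k⁻¹ * r * k⁻¹⁻¹ * (k⁻¹ * r * k⁻¹⁻¹) = 1
      rw [show k⁻¹ * r * k⁻¹⁻¹ * (k⁻¹ * r * k⁻¹⁻¹) = k⁻¹ * (r * r) * k by group, ← sq, K.R_pow_p (hC0R hr)]
      group
    have hbot : D ⊓ K.R = ⊥ := (Subgroup.eq_bot_iff_forall _).mpr fun g hg => hno g hg.1 hg.2
    have h3 : 2 < Nat.card D := by
      rw [hDcard]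
      by_contra h
      push Not at h
      nlinarith
    obtain ⟨e, he, heR⟩ : ∃ e ∈ D, e ∉ K.R := by
      by_contra hall
      push Not at hall
      rw [inf_eq_left.mpr hall] at hbot
      rw [hbot, card_bot] at h3
      omega
    have := K.exists_card_le hDP hsq he heR
    rw [hbot, card_bot] at this
    omega
  obtain ⟨r, hr, hrz⟩ := hzD
  change k⁻¹ * r * k⁻¹⁻¹ = z at hrz
  have hr1 : r ≠ 1 := fun e => hz1 (by rw [← hrz, e]; group)
  have hline : ∀ m : V2, m 1 = 0 → (k • m) 1 = 0 := fun m hm => by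
    refine (K.fix_iff (hC0R hr) hr1 _).mp ?_
    rw [← mul_smul, show r * k = k * z by rw [← hrz]; group, mul_smul, K.smul_of_line hzR hm]
  have := K.lineEq_of_card h4 k hline _ hyk
  exact hyR (by simpa [mul_assoc] using this)

end Setup

end Cfsg.Agent.H31.NatEmbedded
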